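import Groth.Agent.ShStab.K847.GLTwist

/-!
# Numerical lemmas for the kernel node (namespace `K774.KNum`)

* `exists_choose`: `s · C(m + c₁ + d, d) < (s + 1) · C(m - c + d, d)` for all `s ≤ S`, for some `m ≥ c`.
* `exists_int_alpha`: `d! ·` (coefficient in degree `d`) is an integer for an integer valued polynomial of degree `≤ d`.
* `exists_span`: spanning families of given length.
-/

set_option autoImplicit false
open Polynomial

namespace K774.KNum

open StabCat

theorem choose_mul_pow_le (t δ : ℕ) : ∀ d : ℕ,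
    (t + d + δ).choose d * (t + 1) ^ d ≤ (t + d).choose d * (t + 1 + δ) ^ d := by
  intro d
  induction d with
  | zero => simp
  | succ d ih =>
    have h1 : (t + (d + 1) + δ).choose (d + 1) * (d + 1) = (t + d + δ).choose d * (t + (d + 1) + δ) := by
      have h := Nat.add_one_mul_choose_eq (t + d + δ) d
      have e : t + (d + 1) + δ = t + d + δ + 1 := by ring
      rw [e, ← h]
      ring
    have h2 : (t + (d + 1)).choose (d + 1) * (d + 1) = (t + d).choose d * (t + (d + 1)) := by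
      have h := Nat.add_one_mul_choose_eq (t + d) d
      have e : t + (d + 1) = t + d + 1 := by ring
      rw [e, ← h]
      ring
    have h3 : (t + (d + 1) + δ) * (t + 1) ≤ (t + (d + 1)) * (t + 1 + δ) := by
      nlinarith [Nat.zero_le (δ * d)]
    refine Nat.le_of_mul_le_mul_right (c := d + 1) ?_ (Nat.succ_pos d)
    calc (t + (d + 1) + δ).choose (d + 1) * (t + 1) ^ (d + 1) * (d + 1)
        = ((t + (d + 1) + δ).choose (d + 1) * (d + 1)) * (t + 1) ^ (d + 1) := by ring
      _ = ((t + d + δ).choose d * (t + 1) ^ d) * ((t + (d + 1) + δ) * (t + 1)) := by rw [h1]; ring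
      _ ≤ ((t + d).choose d * (t + 1 + δ) ^ d) * ((t + (d + 1)) * (t + 1 + δ)) := Nat.mul_le_mul ih h3
      _ = ((t + (d + 1)).choose (d + 1) * (d + 1)) * (t + 1 + δ) ^ (d + 1) := by rw [h2]; ring
      _ = (t + (d + 1)).choose (d + 1) * (t + 1 + δ) ^ (d + 1) * (d + 1) := by ring

theorem pow_lt (S d δ t : ℕ) (ht : (S + 1) * (d * δ) ≤ t) :
    S * (t + 1 + δ) ^ d < (S + 1) * (t + 1) ^ d := by
  have hpos : (0 : ℚ) < t + 1 + δ := by positivity
  have h1 : (1 : ℚ) + d * (-(δ : ℚ) / (t + 1 + δ)) ≤ (1 + -(δ : ℚ) / (t + 1 + δ)) ^ d := by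
    apply one_add_mul_le_pow
    have h : (δ : ℚ) / (t + 1 + δ) ≤ 1 := by
      rw [div_le_one hpos]
      have : (0 : ℚ) ≤ t := by positivity
      linarith
    rw [neg_div]
    linarith
  have h2 : (1 : ℚ) + -(δ : ℚ) / (t + 1 + δ) = (t + 1) / (t + 1 + δ) := by
    field_simp
    ring
  rw [h2, div_pow] at h1
  have h3 : (S : ℚ) < (S + 1) * (1 + d * (-(δ : ℚ) / (t + 1 + δ))) := by
    have h4 : ((S : ℚ) + 1) * (d * δ) ≤ t := by exact_mod_cast ht
    have h5 : ((S : ℚ) + 1) * (d * δ) / (t + 1 + δ) < 1 := by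
      rw [div_lt_one hpos]
      have : (0 : ℚ) ≤ δ := by positivity
      linarith
    have h6 : ((S : ℚ) + 1) * (1 + d * (-(δ : ℚ) / (t + 1 + δ))) =
        (S + 1) - ((S : ℚ) + 1) * (d * δ) / (t + 1 + δ) := by ring
    rw [h6]
    linarith
  have h7 : (S : ℚ) < (S + 1) * ((t + 1) ^ d / (t + 1 + δ) ^ d) :=
    h3.trans_le (mul_le_mul_of_nonneg_left h1 (by positivity))
  rw [← mul_div_assoc, lt_div_iff₀ (by positivity)] at h7
  exact_mod_cast h7

theorem exists_choose (d : ℕ) (c : ℤ) (c₁ S : ℕ) : ∃ m : ℤ, c ≤ m ∧ ∀ s : ℕ, s ≤ S →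
    s * ((m + c₁ + (d : ℤ)).toNat.choose d) < (s + 1) * ((m - c + (d : ℤ)).toNat.choose d) := by
  set δ : ℕ := c.toNat + c₁ with hδ
  set t : ℕ := (S + 1) * (d * δ) with ht
  refine ⟨c + t, by omega, fun s hs => ?_⟩
  have e1 : (c + t - c + (d : ℤ)).toNat = t + d := by omega
  have e2 : (c + t + c₁ + (d : ℤ)).toNat ≤ t + d + δ := by omega
  rw [e1]
  have h1 : ((c + t + c₁ + (d : ℤ)).toNat).choose d ≤ (t + d + δ).choose d := Nat.choose_le_choose d e2
  refine lt_of_le_of_lt (Nat.mul_le_mul_left s h1) ?_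
  have h2 : (s + 1) * (d * δ) ≤ t := by
    rw [ht]
    exact Nat.mul_le_mul_right _ (by omega)
  have h3 := pow_lt s d δ t h2
  have h4 := choose_mul_pow_le t δ d
  have hpos : 0 < (t + 1) ^ d := by positivity
  have hposc : 0 < (t + d).choose d := Nat.choose_pos (by omega)
  refine Nat.lt_of_mul_lt_mul_right (a := (t + 1) ^ d) ?_
  calc s * (t + d + δ).choose d * (t + 1) ^ d = s * ((t + d + δ).choose d * (t + 1) ^ d) := by ring
    _ ≤ s * ((t + d).choose d * (t + 1 + δ) ^ d) := Nat.mul_le_mul_left s h4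
    _ = (t + d).choose d * (s * (t + 1 + δ) ^ d) := by ring
    _ < (t + d).choose d * ((s + 1) * (t + 1) ^ d) := (Nat.mul_lt_mul_left hposc).mpr h3
    _ = (s + 1) * (t + d).choose d * (t + 1) ^ d := by ring

/-- The difference has smaller degree. -/
theorem natDegree_diff_le {P : ℚ[X]} {e : ℕ} (hP : P.natDegree ≤ e + 1) :
    (P - P.comp (X - C 1)).natDegree ≤ e := by
  rw [natDegree_le_iff_coeff_eq_zero]
  intro N hN
  rw [coeff_sub, sub_eq_zero]
  have hX : (X - C 1 : ℚ[X]) = X + C (-1) := by rw [C_neg, sub_eq_add_neg]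
  rcases Nat.lt_or_ge (e + 1) N with h | h
  · rw [coeff_eq_zero_of_natDegree_lt (lt_of_le_of_lt hP h), coeff_eq_zero_of_natDegree_lt]
    rw [hX, natDegree_comp, natDegree_X_add_C, mul_one]
    exact lt_of_le_of_lt hP h
  · obtain rfl : N = e + 1 := by omega
    rw [hX]
    exact (K847.GLTwist.coeff_comp_top hP (-1)).symm

theorem exists_int_alpha : ∀ (d : ℕ) (P : ℚ[X]), P.natDegree ≤ d → (∀ t : ℤ, ∃ z : ℤ, P.eval (t : ℚ) = z) →
    ∃ z : ℤ, alpha d P = z := by
  intro d
  induction d with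
  | zero =>
    intro P hP hint
    obtain ⟨z, hz⟩ := hint 0
    refine ⟨z, ?_⟩
    rw [eq_C_of_natDegree_le_zero hP, eval_C] at hz
    unfold alpha
    simpa using hz
  | succ e ih =>
    intro P hP hint
    obtain ⟨z, hz⟩ := ih (P - P.comp (X - C 1)) (natDegree_diff_le hP) (fun t => by
      obtain ⟨z1, h1⟩ := hint t
      obtain ⟨z2, h2⟩ := hint (t - 1)
      refine ⟨z1 - z2, ?_⟩
      rw [eval_sub, eval_comp, h1]
      simp only [eval_sub, eval_X, eval_C]
      push_cast at h2 ⊢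
      rw [h2])
    refine ⟨z, ?_⟩
    rw [← hz]
    unfold alpha
    rw [K847.GLNum.coeff_diff hP, Nat.factorial_succ]
    push_cast
    ring

section linalg

variable {k V W Z : Type*} [Field k] [AddCommGroup V] [Module k V] [AddCommGroup W] [Module k W] [AddCommGroup Z]
  [Module k Z]

theorem exists_span [Module.Finite k V] (h : ℕ) (hh : Module.finrank k V ≤ h) :
    ∃ x : Fin h → V, Submodule.span k (Set.range x) = ⊤ := by
  let b := Module.finBasis k V
  refine ⟨fun i => if hi : (i : ℕ) < Module.finrank k V then b ⟨i, hi⟩ else 0, ?_⟩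
  rw [eq_top_iff, ← b.span_eq]
  apply Submodule.span_mono
  rintro _ ⟨j, rfl⟩
  refine ⟨⟨j, lt_of_lt_of_le j.2 hh⟩, ?_⟩
  simp

/-- A larger kernel has a smaller range. -/
theorem finrank_range_le_of_ker_le [Module.Finite k V] (f : V →ₗ[k] W) (g : V →ₗ[k] Z)
    (h : LinearMap.ker f ≤ LinearMap.ker g) :
    Module.finrank k (LinearMap.range g) ≤ Module.finrank k (LinearMap.range f) := by
  have h1 := LinearMap.finrank_range_add_finrank_ker f
  have h2 := LinearMap.finrank_range_add_finrank_ker g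
  have h3 := Submodule.finrank_mono h
  omega

end linalg

end K774.KNum
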