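import Groth.Agent.ShStab.K847.GLTwist
import Groth.Agent.ShStab.K774.KNum

/-!
# The submodule generated by the sections killed by a quotient (namespace `K774.KGen`)

`exists_generated`: for `π : E ⟶ V` on `P^n_k` and a twist `m`, the sections of `E(m)` which die in `V(m)` generate a
coherent submodule `ι : Kg ⟶ E`, a quotient of `O(-m)^h`, killed by `π`, and all these sections die in `(E/Kg)(m)`.
-/

set_option autoImplicit false
universe u
open CategoryTheory CategoryTheory.Limits AlgebraicGeometry TopologicalSpace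

namespace K774.KGen

open Groth.Agent Groth.Agent.Fdesc Groth.Agent.Fdesc.LocGen Groth.Agent.Fga.PicMon ShStab
  K847.StabBasic Groth.Agent.VarietyB.EulerBinom Groth.Agent.FormalA.HHLin K847.Pn K847.GL K847.HilbBasic StabCat

variable {k : Type u} [Field k] {n : ℕ}

/-- Twisting is an equivalence. -/
theorem isEquivalence_tw (m : ℤ) : (DCoh.tensorRightMod (O k n m)).IsEquivalence := by
  obtain ⟨e⟩ := O_inv (k := k) (n := n) m
  obtain ⟨e'⟩ := O_inv (k := k) (n := n) (-m)
  rw [neg_neg] at e'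
  exact (CategoryTheory.Equivalence.mk (DCoh.tensorRightMod (O k n m)) (DCoh.tensorRightMod (O k n (-m)))
    (PerfB.TensInv.tensorInvIso e).symm (PerfB.TensInv.tensorInvIso e')).isEquivalence_functor

/-- Submodules of `E(m)` are twists of submodules of `E`. -/
theorem exists_untwist {E A : (CohB1.ProjSpace n k).Modules} (m : ℤ) (σ : A ⟶ tw E m) [Mono σ] :
    ∃ (B : (CohB1.ProjSpace n k).Modules) (j : B ⟶ E) (e : tw B m ≅ A), Mono j ∧ e.hom ≫ σ = twm j m := by
  have := isEquivalence_tw (k := k) (n := n) m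
  let F := DCoh.tensorRightMod (O k n m)
  let e : F.obj (F.objPreimage A) ≅ A := F.objObjPreimageIso A
  obtain ⟨j, hj⟩ := F.map_surjective (e.hom ≫ σ)
  have hm : Mono (F.map j) := by
    rw [hj]
    exact @mono_comp _ _ _ _ _ e.hom inferInstance σ ‹Mono σ›
  exact ⟨F.objPreimage A, j, e, F.mono_of_mono_map hm, hj.symm⟩

theorem faithful_tw {A B : (CohB1.ProjSpace n k).Modules} (m : ℤ) {f : A ⟶ B} (h : twm f m = 0) : f = 0 := by
  have := isEquivalence_tw (k := k) (n := n) m
  have hz : twm (0 : A ⟶ B) m = 0 := (DCoh.tensorRightMod (O k n m)).map_zero _ _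
  exact (DCoh.tensorRightMod (O k n m)).map_injective (h.trans hz.symm)

/-- A class of degree zero as a map from the structure module. -/
noncomputable def hom0 {X : Scheme.{u}} {M : X.Modules} (x : Coh.HH X M 0) : Coh.structureModule X ⟶ M :=
  homOf (CurvesB.HZero.equivAdd M x)

theorem hom0_comp {X : Scheme.{u}} [X.Over (Spec (CommRingCat.of k))] {M N : X.Modules} (x : Coh.HH X M 0)
    (φ : M ⟶ N) : hom0 x ≫ φ = hom0 (HHmap k φ 0 x) := by
  refine hom_ext_sec ?_
  rw [sec_comp, hom0, hom0, sec_homOf, sec_homOf, res_refl, res_refl]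
  exact (CurvesB.HZero.equivAdd_map φ x).symm

theorem hom0_eq_zero_iff {X : Scheme.{u}} {M : X.Modules} (x : Coh.HH X M 0) : hom0 x = 0 ↔ x = 0 := by
  have key : sec (hom0 x) ⊤ = CurvesB.HZero.equivAdd M x := by
    rw [hom0, sec_homOf, res_refl]
  constructor
  · intro h
    apply (CurvesB.HZero.equivAdd M).injective
    rw [map_zero, ← key, h]
    rfl
  · rintro rfl
    refine hom_ext_sec ?_
    rw [key, map_zero]
    rfl

variable (k)

theorem isNoetherian_pn : IsNoetherian (CohB1.ProjSpace n k) := Fga.IntAdd.isNoetherian k (CohB1.ProjSpace n k)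

/-- The submodule generated by the sections killed by `π`. -/
theorem exists_generated {E V : (CohB1.ProjSpace n k).Modules} (hE : Coh.IsCoh E) (π : E ⟶ V) (m : ℤ) (h : ℕ)
    (hh : Module.finrank k (Coh.HH (CohB1.ProjSpace n k) (tw E m) 0) ≤ h) :
    ∃ (Kg : (CohB1.ProjSpace n k).Modules) (ι : Kg ⟶ E)
      (q : tw (FlatMod.freeMod (CohB1.ProjSpace n k) h) (-m) ⟶ Kg), Mono ι ∧ Epi q ∧ Coh.IsCoh Kg ∧ ι ≫ π = 0 ∧
        LinearMap.ker (HHmap k (twm π m) 0) ≤ LinearMap.ker (HHmap k (twm (cokernel.π ι) m) 0) := by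
  have hN := isNoetherian_pn k (n := n)
  have hEm : Coh.IsCoh (tw E m) := isCoh_tw hE m
  have hfin : Module.Finite k (Coh.HH (CohB1.ProjSpace n k) (tw E m) 0) := S0002.result k _ _ hEm 0
  obtain ⟨x, hx⟩ := KNum.exists_span (k := k) (V := LinearMap.ker (HHmap k (twm π m) 0)) h
    ((Submodule.finrank_le _).trans hh)
  let σ : FlatMod.freeMod (CohB1.ProjSpace n k) h ⟶ tw E m := Sigma.desc fun i => hom0 (x i).1
  have hσ : ∀ i, Sigma.ι (fun _ : Fin h => Coh.structureModule (CohB1.ProjSpace n k)) i ≫ σ = hom0 (x i).1 :=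
    fun i => Sigma.ι_desc _ _
  let p' := Abelian.factorThruImage σ
  let ι' := Abelian.image.ι σ
  have hp' : p' ≫ ι' = σ := Abelian.image.fac σ
  have hC : Coh.IsCoh (Abelian.image σ) := by
    have h1 : Coh.IsCoh (cokernel σ) := Sga67.CohBasic.isCoh_cokernel σ (isCoh_free k n h).1 hEm
    exact Sga67.CohBasic.isCoh_kernel (cokernel.π σ) hEm h1.1
  obtain ⟨Kg, ι, e, hι, he⟩ := exists_untwist m ι'
  -- `Kg` is a quotient of `O(-m)^h`
  obtain ⟨e2⟩ : Nonempty (tw (Abelian.image σ) (-m) ≅ Kg) := by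
    rw [← mc_eq_iff, mc_tw, ← mc_eq e, mc_tw, mul_assoc, mc_O_mul, add_neg_cancel, mc_O_zero, mul_one]
  have hepi : Epi (twm p' (-m)) := by
    have : (DCoh.tensorRightMod (O k n (-m))).PreservesEpimorphisms := inferInstance
    exact this.preserves p'
  refine ⟨Kg, ι, twm p' (-m) ≫ e2.hom, hι, epi_comp _ _, Sga67.CohBasic.isCoh_of_iso e2 (isCoh_tw hC (-m)), ?_, ?_⟩
  · -- `π` kills `Kg`
    apply faithful_tw m
    have h1 : twm (ι ≫ π) m = twm ι m ≫ twm π m := (DCoh.tensorRightMod (O k n m)).map_comp _ _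
    rw [h1, ← he, Category.assoc]
    have h2 : ι' ≫ twm π m = 0 := by
      rw [← cancel_epi p', comp_zero, ← Category.assoc, hp']
      refine Sigma.hom_ext _ _ fun i => ?_
      rw [comp_zero, ← Category.assoc, hσ, hom0_comp (k := k), hom0_eq_zero_iff]
      exact (x i).2
    rw [h2, comp_zero]
  · -- the sections die in `E/Kg`
    intro y hy
    have hgen : ∀ i, HHmap k (twm (cokernel.π ι) m) 0 (x i).1 = 0 := by
      intro i
      rw [← hom0_eq_zero_iff, ← hom0_comp (k := k), ← hσ, Category.assoc, ← hp', Category.assoc]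
      have h3 : ι' ≫ twm (cokernel.π ι) m = 0 := by
        rw [← cancel_epi e.hom, comp_zero, ← Category.assoc, he]
        have h4 : twm ι m ≫ twm (cokernel.π ι) m = twm (ι ≫ cokernel.π ι) m :=
          ((DCoh.tensorRightMod (O k n m)).map_comp _ _).symm
        rw [h4, cokernel.condition]
        exact (DCoh.tensorRightMod (O k n m)).map_zero _ _
      rw [h3, comp_zero, comp_zero]
    have hy' : (⟨y, hy⟩ : LinearMap.ker (HHmap k (twm π m) 0)) ∈ Submodule.span k (Set.range x) := by
      rw [hx]; trivial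
    rw [LinearMap.mem_ker]
    have h5 : Submodule.span k (Set.range x) ≤ LinearMap.ker
        ((HHmap k (twm (cokernel.π ι) m) 0).comp (LinearMap.ker (HHmap k (twm π m) 0)).subtype) := by
      rw [Submodule.span_le]
      rintro _ ⟨i, rfl⟩
      exact hgen i
    have h6 := h5 hy'
    rw [LinearMap.mem_ker, LinearMap.comp_apply] at h6
    exact h6

end K774.KGen
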