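import Groth.Agent.ShStab.K781.Base
import Groth.Agent.ShStab.K774.KGen
import Groth.Agent.ParSh.K958.SatCmp

/-!
# Node K (namespace `K774.NodeK`)

`stmtK`: a quotient `V` of a pure module `E` with few sections kills a submodule `Kg` whose saturation `K` has
`rank (E/K) ≤ s`, with everything bounded independently of `V`.
-/

set_option autoImplicit false
universe u
open CategoryTheory CategoryTheory.Limits AlgebraicGeometry TopologicalSpace Polynomial

namespace K774.NodeK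

open Groth.Agent Groth.Agent.Fga.PicMon ShStab
  K847.StabBasic Groth.Agent.VarietyB.EulerBinom Groth.Agent.FormalA.HHLin K847.Pn K847.GL K847.HilbBasic StabCat
  K774.KNum K774.KGen K781.Base

theorem alpha_sub (d : ℕ) (P Q : ℚ[X]) : alpha d (P - Q) = alpha d P - alpha d Q := by
  unfold alpha
  rw [coeff_sub]
  ring

variable (k : Type u) [Field k] {n : ℕ}

/-- Hilbert polynomials of quotients. -/
theorem HP_X₃ {S : ShortComplex (CohB1.ProjSpace n k).Modules} (hS : S.ShortExact) (h1 : Coh.IsCoh S.X₁)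
    (h2 : Coh.IsCoh S.X₂) (h3 : Coh.IsCoh S.X₃) {P₁ P₂ : ℚ[X]} (hP₁ : HP k S.X₁ P₁) (hP₂ : HP k S.X₂ P₂) :
    HP k S.X₃ (P₂ - P₁) := by
  intro t
  have h := euler_obj_add k n hS h1 h2 h3 t
  have h4 : ((Curv2.euler k (CohB1.ProjSpace n k) (tw S.X₂ t) : ℤ) : ℚ) =
      Curv2.euler k (CohB1.ProjSpace n k) (tw S.X₁ t) + Curv2.euler k (CohB1.ProjSpace n k) (tw S.X₃ t) := by
    exact_mod_cast h
  rw [eval_sub, ← hP₂ t, ← hP₁ t]
  exact eq_sub_of_add_eq' h4.symm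

theorem shortExact_coker {A B : (CohB1.ProjSpace n k).Modules} (f : A ⟶ B) [Mono f] :
    (ShortComplex.mk f (cokernel.π f) (cokernel.condition f)).ShortExact :=
  { exact := ShortComplex.exact_of_g_is_cokernel _ (cokernelIsCokernel _) }

theorem HP_coker {A B : (CohB1.ProjSpace n k).Modules} (f : A ⟶ B) [Mono f] (hA : Coh.IsCoh A) (hB : Coh.IsCoh B)
    {P Q : ℚ[X]} (hP : HP k A P) (hQ : HP k B Q) : HP k (cokernel f) (Q - P) :=
  HP_X₃ k (shortExact_coker k f) hA hB (Sga67.CohBasic.isCoh_cokernel f hA.1 hB) hP hQ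

theorem natDegree_le_of_dimLE {F : (CohB1.ProjSpace n k).Modules} (hF : Coh.IsCoh F) {d : ℕ} (hd : DimLE F d)
    {P : ℚ[X]} (hP : HP k F P) : P.natDegree ≤ d :=
  K847.HilbBasic.natDegree_le k (isAmple_O_one k n).1 hF hd (isHilbPoly_of_HP k hP)

theorem alpha_nonneg_of_dimLE {F : (CohB1.ProjSpace n k).Modules} (hF : Coh.IsCoh F) {d : ℕ} (hd : DimLE F d)
    {P : ℚ[X]} (hP : HP k F P) : 0 ≤ alpha d P := by
  by_cases h0 : IsZero F
  · rw [hilbPoly_eq_zero k h0 (isHilbPoly_of_HP k hP)]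
    simp [alpha]
  · obtain ⟨d', hd'⟩ := exists_dim_support_eq k h0
    have hle : d' ≤ d := by
      have h1 : topologicalKrullDim (CohB1.support F) ≤ (d : WithBot ℕ∞) := hd
      rw [hd'] at h1
      exact_mod_cast h1
    rcases hle.lt_or_eq with hlt | rfl
    · have h1 := natDegree_le_of_dimLE k hF (d := d') hd'.le hP
      unfold alpha
      rw [coeff_eq_zero_of_natDegree_lt (lt_of_le_of_lt h1 hlt), mul_zero]
    · exact (alpha_pos k (isAmple_O_one k n) hF hd' (isHilbPoly_of_HP k hP)).le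

theorem dimLE_of_epi {A B : (CohB1.ProjSpace n k).Modules} (f : A ⟶ B) [Epi f] {d : ℕ} (h : DimLE A d) :
    DimLE B d :=
  (K958.Satur.dim_mono (CohqB.DevSupport.support_subset_of_epi f)).trans h

theorem dimLE_of_mono {A B : (CohB1.ProjSpace n k).Modules} (f : A ⟶ B) [Mono f] {d : ℕ} (h : DimLE B d) :
    DimLE A d :=
  (K958.Satur.dim_mono (CohqB.DevSupport.support_subset_of_mono f)).trans h

theorem exists_Reg {E : (CohB1.ProjSpace n k).Modules} (hE : Coh.IsCoh E) : ∃ c : ℤ, Reg k E c := by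
  obtain ⟨r₀, hr₀⟩ := Fga.MumInputs.serre k n E hE
  refine ⟨r₀ + n, fun i hi q hq => ?_⟩
  by_cases hin : i ≤ n
  · exact hr₀ q (by omega) i hi
  · have := (isCoh_tw hE q).1
    exact S0022.result n k _ i (by omega)

/-- `E` is a quotient of `O(-ρ)^b`, `b ≥ 1`. -/
theorem exists_fr {E : (CohB1.ProjSpace n k).Modules} (hE : Coh.IsCoh E) :
    ∃ (b : ℕ) (ρ : ℤ) (q : fr k n b ρ ⟶ E), 1 ≤ b ∧ Epi q := by
  obtain ⟨n₀, h⟩ := Sga67.SerreVB.exists_epi_twist n k hE
  obtain ⟨b, p, hp⟩ := h n₀ le_rfl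
  let e : (Sga67.SerreVB.tw n k (n₀ : ℤ)).obj E ≅ tw E (n₀ : ℤ) := Iso.refl _
  -- the projection from one more summand
  let p' : FlatMod.freeMod (CohB1.ProjSpace n k) (b + 1) ⟶ FlatMod.freeMod (CohB1.ProjSpace n k) b :=
    Sigma.desc (fun i => if hi : (i : ℕ) < b then
      Sigma.ι (fun _ : Fin b => Coh.structureModule (CohB1.ProjSpace n k)) ⟨i, hi⟩ else 0)
  have hp' : Epi p' := by
    refine ⟨fun {Z} u v huv => ?_⟩
    refine Sigma.hom_ext _ _ fun i => ?_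
    have h1 : Sigma.ι (fun _ : Fin b => Coh.structureModule (CohB1.ProjSpace n k)) i =
        Sigma.ι (fun _ : Fin (b + 1) => Coh.structureModule (CohB1.ProjSpace n k)) ⟨i, by omega⟩ ≫ p' := by
      rw [Sigma.ι_desc]
      simp
    rw [h1, Category.assoc, Category.assoc, huv]
  have hp2 : Epi (p' ≫ p ≫ e.hom) := by
    have : Epi (p ≫ e.hom) := epi_comp _ _
    exact epi_comp _ _
  obtain ⟨e2⟩ : Nonempty (tw (tw E (n₀ : ℤ)) (-(n₀ : ℤ)) ≅ E) := by
    rw [← mc_eq_iff, mc_tw, mc_tw, mul_assoc, mc_O_mul, add_neg_cancel, mc_O_zero, mul_one]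
  have hepi : Epi (twm (p' ≫ p ≫ e.hom) (-(n₀ : ℤ))) := by
    have : (DCoh.tensorRightMod (O k n (-(n₀ : ℤ)))).PreservesEpimorphisms := inferInstance
    exact this.preserves _
  exact ⟨b + 1, n₀, twm (p' ≫ p ≫ e.hom) (-(n₀ : ℤ)) ≫ e2.hom, by omega, epi_comp _ _⟩

theorem exists_int {F : (CohB1.ProjSpace n k).Modules} {d : ℕ} {P : ℚ[X]} (hP : HP k F P) (hdeg : P.natDegree ≤ d) :
    ∃ z : ℤ, alpha d P = z :=
  exists_int_alpha d P hdeg fun t => ⟨_, (hP t).symm⟩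

theorem mul_le_abs {μ x a : ℚ} (hx : 0 ≤ x) (hxa : x ≤ a) : -(|μ| * a) ≤ μ * x := by
  have h1 : -(|μ| * x) ≤ μ * x := by
    rw [← neg_mul]
    exact mul_le_mul_of_nonneg_right (neg_abs_le μ) hx
  have h2 : |μ| * x ≤ |μ| * a := mul_le_mul_of_nonneg_left hxa (abs_nonneg μ)
  linarith

theorem stmtK (hW : StmtW.{u}) (hMin : StmtMin.{u}) : StmtK.{u} := by
  intro k _ _ n e E hE hp PE hPE c₁
  have hdimE : DimLE E (e + 1) := dim_le_of_isPure hE hp
  obtain ⟨c, hc⟩ := exists_Reg k hE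
  obtain ⟨b, ρ, q₀, hb, hq₀⟩ := exists_fr k hE
  set a₀ := alpha (e + 1) PE with ha₀
  have ha0 : 0 ≤ a₀ := alpha_nonneg_of_dimLE k hE hdimE hPE
  obtain ⟨m, hcm, hchoose⟩ := exists_choose (e + 1) c c₁ ⌊a₀⌋₊
  obtain ⟨μ, hμ⟩ := hMin n (Module.finrank k (Coh.HH (CohB1.ProjSpace n k) (tw E m) 0) + 1) (by omega) m e a₀
  obtain ⟨μ', hμ'⟩ := hMin n b hb ρ e a₀
  obtain ⟨𝒮, h𝒮, hmain⟩ := K847.GLTwist.twisted.{u} n b hb ρ (e + 1) a₀ (max 0 (alpha e PE + |μ| * a₀))
  refine ⟨alpha e PE + |μ| * a₀ + |μ'| * a₀, 𝒮, h𝒮, ?_⟩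
  intro s hs V π hV hπ hV0
  obtain ⟨Kg, ι, q, hι, hq, hKg, hιπ, hker⟩ := exists_generated k hE π m
    (Module.finrank k (Coh.HH (CohB1.ProjSpace n k) (tw E m) 0) + 1) (Nat.le_succ _)
  obtain ⟨K, i, j, hi, hj, hij, hK, hpure, hdim, -⟩ := K958.SatCmp.exists_sat (k := k) (isAmple_O_one k n) hE hp ι hKg
  refine ⟨Kg, K, i, j, hi, hj, hKg, hK, by rw [hij]; exact hιπ, hpure, ?_⟩
  intro PK PKg hPK hPKg
  -- Hilbert polynomials of `R = E/Kg`, `R' = E/K`, `T = K/Kg`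
  have hR : Coh.IsCoh (cokernel ι) := Sga67.CohBasic.isCoh_cokernel ι hKg.1 hE
  have hR' : Coh.IsCoh (cokernel j) := Sga67.CohBasic.isCoh_cokernel j hK.1 hE
  have hT : Coh.IsCoh (cokernel i) := Sga67.CohBasic.isCoh_cokernel i hKg.1 hK
  have hPR : HP k (cokernel ι) (PE - PKg) := HP_coker k ι hKg hE hPKg hPE
  have hPR' : HP k (cokernel j) (PE - PK) := HP_coker k j hK hE hPK hPE
  have hPT : HP k (cokernel i) (PK - PKg) := HP_coker k i hKg hK hPKg hPK
  have hdT : DimLE (cokernel i) e := by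
    have h1 : topologicalKrullDim (CohB1.support (cokernel i)) < ((e + 1 : ℕ) : WithBot ℕ∞) := hdim
    by_cases h0 : IsZero (cokernel i)
    · change topologicalKrullDim (CohB1.support (cokernel i)) ≤ _
      rw [dim_support_isZero h0]
      exact bot_le
    · obtain ⟨d', hd'⟩ := exists_dim_support_eq k h0
      change topologicalKrullDim (CohB1.support (cokernel i)) ≤ _
      rw [hd'] at h1 ⊢
      have h2 : d' < e + 1 := by exact_mod_cast h1
      have h3 : d' ≤ e := by omega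
      exact_mod_cast h3
  have hdR : DimLE (cokernel ι) (e + 1) := dimLE_of_epi k (cokernel.π ι) hdimE
  have hdR' : DimLE (cokernel j) (e + 1) := dimLE_of_epi k (cokernel.π j) hdimE
  have hdKg : DimLE Kg (e + 1) := dimLE_of_mono k ι hdimE
  have hTdeg : (PK - PKg).natDegree ≤ e := natDegree_le_of_dimLE k hT hdT hPT
  have hTtop : alpha (e + 1) (PK - PKg) = 0 := by
    unfold alpha
    rw [coeff_eq_zero_of_natDegree_lt (by omega), mul_zero]
  have hTnn : 0 ≤ alpha e (PK - PKg) := alpha_nonneg_of_dimLE k hT hdT hPT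
  have hRnn : 0 ≤ alpha (e + 1) (PE - PKg) := alpha_nonneg_of_dimLE k hR hdR hPR
  have hR'nn : 0 ≤ alpha (e + 1) (PE - PK) := alpha_nonneg_of_dimLE k hR' hdR' hPR'
  have hKgnn : 0 ≤ alpha (e + 1) PKg := alpha_nonneg_of_dimLE k hKg hdKg hPKg
  rw [alpha_sub] at hTtop hTnn hRnn hR'nn
  have hKga : alpha (e + 1) PKg ≤ a₀ := by linarith
  have hR'a : alpha (e + 1) (PE - PK) ≤ a₀ := by rw [alpha_sub]; linarith
  have h1 := hμ k Kg q hKg hq hdKg PKg hPKg hKga
  have h1' : -(|μ| * a₀) ≤ alpha e PKg := (mul_le_abs hKgnn hKga).trans h1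
  have h2 := hμ' k (cokernel j) (q₀ ≫ cokernel.π j) hR' (epi_comp _ _) hdR' _ hPR' hR'a
  have h2' : -(|μ'| * a₀) ≤ alpha e (PE - PK) := (mul_le_abs (by rw [alpha_sub]; exact hR'nn) hR'a).trans h2
  have h3 : alpha e (PE - PK) ≤ alpha e PE + |μ| * a₀ := by
    rw [alpha_sub]
    linarith
  -- the rank of `E/K`
  have hrank : alpha (e + 1) (PE - PKg) ≤ s := by
    have hfin : Module.Finite k (Coh.HH (CohB1.ProjSpace n k) (tw E m) 0) := S0002.result k _ _ (isCoh_tw hE m) 0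
    have hfinV : Module.Finite k (Coh.HH (CohB1.ProjSpace n k) (tw V m) 0) := S0002.result k _ _ (isCoh_tw hV m) 0
    have g1 := hW k n (e + 1) c E (cokernel ι) (cokernel.π ι) hE hR inferInstance hdimE hc _ hPR m hcm
    have g2 : Module.finrank k (LinearMap.range (HHmap k (twm (cokernel.π ι) m) 0)) ≤ h0 k V m :=
      (finrank_range_le_of_ker_le _ _ hker).trans (Submodule.finrank_le _)
    have g3 := hV0 m
    have g4 : s ≤ ⌊a₀⌋₊ := Nat.le_floor hs
    have g5 := hchoose s g4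
    have g6 : alpha (e + 1) (PE - PKg) * (((m - c + ((e + 1 : ℕ) : ℤ)).toNat.choose (e + 1) : ℕ) : ℚ) <
        ((s : ℚ) + 1) * (((m - c + ((e + 1 : ℕ) : ℤ)).toNat.choose (e + 1) : ℕ) : ℚ) := by
      have g2' : (Module.finrank k (LinearMap.range (HHmap k (twm (cokernel.π ι) m) 0)) : ℚ) ≤ (h0 k V m : ℚ) := by
        exact_mod_cast g2
      have g5' : (s : ℚ) * (((m + c₁ + ((e + 1 : ℕ) : ℤ)).toNat.choose (e + 1) : ℕ) : ℚ) <
          ((s : ℚ) + 1) * (((m - c + ((e + 1 : ℕ) : ℤ)).toNat.choose (e + 1) : ℕ) : ℚ) := by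
        exact_mod_cast g5
      exact lt_of_le_of_lt (g1.trans (g2'.trans g3)) g5'
    have g7 : alpha (e + 1) (PE - PKg) < (s : ℚ) + 1 := lt_of_mul_lt_mul_right g6 (by positivity)
    obtain ⟨z, hz⟩ := exists_int k hPR (natDegree_le_of_dimLE k hR hdR hPR)
    rw [hz] at g7 ⊢
    have g8 : z < (s : ℤ) + 1 := by exact_mod_cast g7
    have g9 : z ≤ (s : ℤ) := by omega
    exact_mod_cast g9
  refine ⟨hTdeg, ?_, ?_, ?_⟩
  · rw [alpha_sub] at h2' ⊢
    linarith
  · rw [alpha_sub] at hrank ⊢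
    linarith
  · refine hmain k (cokernel j) (q₀ ≫ cokernel.π j) hR' (epi_comp _ _) hpure _ hPR' hR'a fun _ => ?_
    obtain ⟨z, hz⟩ := exists_int k hPR' (natDegree_le_of_dimLE k hR' hdR' hPR')
    change alpha e (PE - PK) / alpha (e + 1) (PE - PK) ≤ _
    have hz0 : 0 ≤ alpha (e + 1) (PE - PK) := by rw [alpha_sub]; exact hR'nn
    rcases hz0.eq_or_lt with h0 | hpos
    · rw [← h0, div_zero]
      exact le_max_left _ _
    · have hz1 : (1 : ℚ) ≤ alpha (e + 1) (PE - PK) := by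
        rw [hz] at hpos ⊢
        have h5 : 0 < z := by exact_mod_cast hpos
        have h6 : (1 : ℤ) ≤ z := by omega
        exact_mod_cast h6
      rcases le_total (alpha e (PE - PK)) 0 with hneg | hnn
      · exact (div_nonpos_of_nonpos_of_nonneg hneg hz0).trans (le_max_left _ _)
      · exact (div_le_self hnn hz1).trans (h3.trans (le_max_right _ _))

end K774.NodeK
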