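import Groth.Agent.ShStab.K781.Inst2
import Groth.Agent.ShStab.K847.Cut

/-!
# Restriction theorems: `E / h^a E` is pure (node Pure)
-/

set_option autoImplicit false
universe u
open CategoryTheory CategoryTheory.Limits AlgebraicGeometry TopologicalSpace Polynomial

namespace K774.Pure

open Groth.Agent Groth.Agent.Fga.RegSec Groth.Agent.Fga.PicMon ShStab StabCat K847.Pn K847.GL
  Groth.Agent.FormalA.HHLin K781.Base K781.Cat K781.Cat2 K781.PLat K846.CSub K781.Inst

variable {k : Type u} [Field k] {n : ℕ}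

/-! ### Lattice theory -/

/-- If `E / h E` is pure, then `E / h^a E` is pure. -/
theorem le_of_step {L : Type*} [Lattice L] [BoundedOrder L] {P : L → ℚ[X]} {h : L → L} {g : ℕ} (H : PL P h g)
    (h1 : ∀ B : L, h ⊤ ≤ B → alpha (g + 1) (P B) = alpha (g + 1) (P (h ⊤)) → B ≤ h ⊤) :
    ∀ (a : ℕ) (B : L), h^[a] ⊤ ≤ B → alpha (g + 1) (P B) = alpha (g + 1) (P (h^[a] ⊤)) → B ≤ h^[a] ⊤ := by
  have N := H.num
  have hr : ∀ (i : ℕ) (A : L), alpha (g + 2) (P (h^[i] A)) = alpha (g + 2) (P A) := by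
    intro i A
    induction i generalizing A with
    | zero => rfl
    | succ i ih =>
      rw [Function.iterate_succ_apply']
      exact (N.r_h _).trans (ih A)
  intro a
  induction a with
  | zero => intro B _ _; exact le_top
  | succ a ih =>
    intro B hB hα
    rw [Function.iterate_succ_apply'] at hB hα ⊢
    -- the ranks of all modules between `h^(a+1) ⊤` and `⊤` agree
    have hrt : ∀ A : L, h (h^[a] ⊤) ≤ A → alpha (g + 2) (P A) = alpha (g + 2) (P (⊤ : L)) := by
      intro A hA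
      refine le_antisymm (N.r_mono le_top) ?_
      have e1 : alpha (g + 2) (P (h (h^[a] ⊤))) = alpha (g + 2) (P (⊤ : L)) := (N.r_h _).trans (hr a ⊤)
      rw [← e1]
      exact N.r_mono hA
    have hle1 : h (h^[a] ⊤) ≤ h ⊤ := N.h_mono le_top
    have hinf : h (h^[a] ⊤) ≤ B ⊓ h ⊤ := le_inf hB hle1
    have e1 : alpha (g + 1) (P (B ⊓ h ⊤)) = alpha (g + 1) (P B) := by
      refine le_antisymm (N.m_mono inf_le_left ((hrt _ hinf).trans (hrt _ hB).symm)) ?_
      rw [hα]
      exact N.m_mono hinf ((hrt _ le_rfl).trans (hrt _ hinf).symm)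
    have e2 : alpha (g + 1) (P (B ⊔ h ⊤)) = alpha (g + 1) (P (h ⊤)) := by
      have := N.m_mod B (h ⊤)
      linarith
    have hBh : B ≤ h ⊤ := le_sup_left.trans (h1 _ le_sup_right e2)
    obtain ⟨A, rfl⟩ := H.h_surj hBh
    have hA : h^[a] ⊤ ≤ A := H.h_iff.1 hB
    refine N.h_mono (ih A hA ?_)
    have m1 := N.m_h A
    have m2 := N.m_h (h^[a] ⊤)
    have r1 := hrt (h A) hB
    have r2 : alpha (g + 2) (P A) = alpha (g + 2) (P (⊤ : L)) := (N.r_h A).symm.trans r1
    have r3 := hr a (⊤ : L)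
    rw [hα, m2] at m1
    linarith

/-! ### The first step -/

section

variable (s : Coh.structureModule (CohB1.ProjSpace n k) ⟶ O k n 1) {E : (CohB1.ProjSpace n k).Modules}
  [hs : Mono ((nu s).app E)]

/-- `E / h E ≅ (E(1) / s E)(-1)`. -/
theorem nonempty_coker_hsub : Nonempty (cokernel (hsub (Th k n) (nu s) (⊤ : Subobject E)).arrow ≅
    tw (cokernel (mulS s E)) (-1)) := by
  refine nonempty_untw ?_
  let Θ := Th k n
  -- `hsub ⊤ ≅ Θ⁻¹ E`
  have e1 : Nonempty (cokernel (hsub Θ (nu s) (⊤ : Subobject E)).arrow ≅ cokernel (jm Θ (nu s) (⊤ : Subobject E))) :=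
    ⟨cokernel.mapIso _ _ (hsubIso Θ (nu s) (⊤ : Subobject E)) (Iso.refl _) (by
      simp [hsubIso, hsub])⟩
  have e2 : Nonempty (Θ.functor.obj (cokernel (jm Θ (nu s) (⊤ : Subobject E))) ≅ cokernel ((nu s).app E)) := by
    refine ⟨PreservesCokernel.iso Θ.functor _ ≪≫ cokernel.mapIso _ _
      (Θ.counitIso.app _ ≪≫ asIso (⊤ : Subobject E).arrow) (Iso.refl _) ?_⟩
    simp [jm]
  exact Θ.functor.mapIso e1.some ≪≫ e2.some

/-- `E / h E` is pure if `E(1) / s E` is. -/
theorem le_hC_top {g : ℕ} [hE : Fact (Coh.IsCoh E)] (hp : IsPure (CohB1.ProjSpace n k) (cokernel (mulS s E)) (g + 1))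
    (B : CSub E) (hB : hC s (⊤ : CSub E) ≤ B) (hα : alpha (g + 1) (PC B) = alpha (g + 1) (PC (hC s (⊤ : CSub E)))) :
    B ≤ hC s ⊤ := by
  obtain ⟨e⟩ := nonempty_coker_hsub s (E := E)
  have hQ : IsPure (CohB1.ProjSpace n k) (cokernel (hsub (Th k n) (nu s) (⊤ : Subobject E)).arrow) (g + 1) :=
    K847.StabBasic.isPure_iso e.symm (isPure_tw hp (-1))
  let A : CSub E := hC s ⊤
  let F := cokernel (Subobject.ofLE A.1 B.1 hB)
  have hm : Mono (qm (A := A.1) (B := B.1) (C' := A.1) (D := ⊤) hB le_top le_rfl le_top) :=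
    mono_qm _ _ _ _ inf_le_right
  obtain ⟨e'⟩ := nonempty_top A.1
  have hF : Coh.IsCoh F := coh_coker (k := k) facts hB
  by_cases h0 : IsZero F
  · have h1 : PC A = PC B := by
      have h2 := hp_coker (k := k) facts hB
      have h3 : Coherent.K51.HPDict.hp k n F = 0 := (addH (k := k) facts).v_zero h0
      have h4 : PC B - PC A = 0 := h2.symm.trans h3
      exact (sub_eq_zero.1 h4).symm
    exact (eq_of_hp_eq (k := k) facts hB h1).ge
  · exfalso
    have hm2 : Mono (qm (A := A.1) (B := B.1) (C' := A.1) (D := ⊤) hB le_top le_rfl le_top ≫ e'.hom) :=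
      @mono_comp _ _ _ _ _ _ hm _ (IsIso.mono_of_iso e'.hom)
    have hd := hQ F (qm (A := A.1) (B := B.1) (C' := A.1) (D := ⊤) hB le_top le_rfl le_top ≫ e'.hom)
      hm2 hF h0
    rw [(facts (k := k) (n := n)).dim F hF h0] at hd
    have hd' : (Coherent.K51.HPDict.hp k n F).natDegree = g + 1 := by exact_mod_cast hd
    have hpos := (facts (k := k) (n := n)).pos F hF h0
    have h2 : Coherent.K51.HPDict.hp k n F = PC B - PC A := hp_coker (k := k) facts hB
    have h3 : alpha (g + 1) (Coherent.K51.HPDict.hp k n F) = 0 := by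
      rw [h2, K847.PolyOrd.alpha_sub, hα, sub_self]
    unfold alpha at h3
    rw [leadingCoeff, hd'] at hpos
    have h4 : ((g + 1).factorial : ℚ) ≠ 0 := by exact_mod_cast Nat.factorial_ne_zero _
    rcases mul_eq_zero.1 h3 with h | h
    · exact h4 h
    · exact hpos.ne' h

end

theorem dimLE_of_isPure {E : (CohB1.ProjSpace n k).Modules} (hE : Coh.IsCoh E) {d : ℕ}
    (hp : IsPure (CohB1.ProjSpace n k) E d) : DimLE E d := by
  by_cases h0 : IsZero E
  · have h1 := CohqB.DevSupport.support_eq_empty_of_isZero h0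
    have h2 : IsEmpty (IrreducibleCloseds (CohB1.support E)) := by
      refine ⟨fun T => ?_⟩
      obtain ⟨x, -⟩ := T.isIrreducible.nonempty
      exact (Set.eq_empty_iff_forall_notMem.1 h1) x.1 x.2
    unfold DimLE topologicalKrullDim
    rw [Order.krullDim_eq_bot]
    exact bot_le
  · exact (hp E (𝟙 E) inferInstance hE h0).le

/-- **Node Pure.** -/
theorem stmtPure : StmtPure.{u} := by
  intro k _ n g E hE hp
  obtain ⟨B, hB, hcut⟩ := K847.Cut.exists_bad k (CohB1.ProjSpace n k) (isAmple_O_one k n) hE.out (e := g + 1) hp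
  have hN : IsNoetherian (CohB1.ProjSpace n k) := K774.KGen.isNoetherian_pn k
  refine ⟨AssSch.Ass E ∪ B, (Fdesc.SubFilt.finite_ass hE.out).union hB, fun s hs => ?_⟩
  have hinv : PicF.IsInvertible (O k n 1) := (isAmple_O_one k n).1
  have hm : Mono (mulS s E) := K847.Cut.mono_mulS hinv s hE.out (Set.subset_union_left.trans hs)
  have hm' : Mono ((nu s).app E) := hm
  refine ⟨hm', ?_⟩
  exact le_of_step (pl s (dimLE_of_isPure hE.out hp)) (le_hC_top s (hcut _ hinv s hs))

end K774.Pure
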